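import Groth.Agent.Sga5.ProjConn
import Groth.Agent.Sga5.ProjReg
import Groth.Agent.CalgA.RegBasic
import Mathlib.AlgebraicGeometry.Morphisms.SchemeTheoreticallyDominant

/-!
# Projective space over a field is integral
-/

set_option autoImplicit false
open CategoryTheory AlgebraicGeometry MvPolynomial TopologicalSpace
universe u

namespace Groth.Agent.Lefpen.H717.ProjIrr

open Groth.Agent.Sga5.ProjChart Groth.Agent.Sga5.ProjSmooth Groth.Agent.Sga5.ProjConn

variable (n : ℕ) (k : Type u) [Field k]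

theorem inter_chart (i : Fin (n + 1)) (W W' : (CohB1.ProjSpace n k).Opens)
    (h : (W ⊓ (chart n k i).opensRange : Set (CohB1.ProjSpace n k)).Nonempty)
    (h' : (W' ⊓ (chart n k i).opensRange : Set (CohB1.ProjSpace n k)).Nonempty) :
    ((W : Set (CohB1.ProjSpace n k)) ∩ (W' ∩ (chart n k i).opensRange)).Nonempty := by
  have : IrreducibleSpace (Spec (CommRingCat.of (MvPolynomial (Fin n) k))) :=
    inferInstanceAs (IrreducibleSpace (PrimeSpectrum (MvPolynomial (Fin n) k)))
  obtain ⟨x, hx, ⟨y, rfl⟩⟩ := h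
  obtain ⟨x', hx', ⟨y', rfl⟩⟩ := h'
  obtain ⟨z, hz, hz'⟩ := nonempty_preirreducible_inter ((chart n k i) ⁻¹ᵁ W).isOpen
    ((chart n k i) ⁻¹ᵁ W').isOpen ⟨y, hx⟩ ⟨y', hx'⟩
  exact ⟨chart n k i z, hz, hz', ⟨z, rfl⟩⟩

theorem meets_chart (i : Fin (n + 1)) (W : (CohB1.ProjSpace n k).Opens)
    (h : (W : Set (CohB1.ProjSpace n k)).Nonempty) :
    (W ⊓ (chart n k i).opensRange : Set (CohB1.ProjSpace n k)).Nonempty := by
  obtain ⟨x, hx⟩ := h
  obtain ⟨l, hl⟩ := exists_mem_chart n k x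
  obtain ⟨z, hz, hz', -⟩ := inter_chart n k l W (chart n k i).opensRange ⟨x, hx, hl⟩
    ⟨genPt n k, genPt_mem n k i, genPt_mem n k l⟩
  exact ⟨z, hz, hz'⟩

instance irreducibleSpace_projSpace : IrreducibleSpace (CohB1.ProjSpace n k) := by
  have h1 : PreirreducibleSpace (CohB1.ProjSpace n k) := by
    constructor
    intro W W' hW hW' h h'
    obtain ⟨x, -, hx⟩ := h
    obtain ⟨x', -, hx'⟩ := h'
    obtain ⟨z, hz, hz', -⟩ := inter_chart n k 0 ⟨W, hW⟩ ⟨W', hW'⟩ (meets_chart n k 0 ⟨W, hW⟩ ⟨x, hx⟩)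
      (meets_chart n k 0 ⟨W', hW'⟩ ⟨x', hx'⟩)
    exact ⟨z, trivial, hz, hz'⟩
  exact { toNonempty := ⟨genPt n k⟩ }

instance isReduced_projSpace : IsReduced (CohB1.ProjSpace n k) := by
  have h : ∀ x : CohB1.ProjSpace n k, _root_.IsReduced ((CohB1.ProjSpace n k).presheaf.stalk x) := by
    intro x
    have := Groth.Agent.Sga5.ProjReg.isRegularLocalRing_stalk n k x
    have : IsDomain ((CohB1.ProjSpace n k).presheaf.stalk x) := Groth.Agent.CalgA.RegBasic.isDomain _
    infer_instance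
  exact isReduced_of_isReduced_stalk _

instance isIntegral_projSpace : IsIntegral (CohB1.ProjSpace n k) :=
  isIntegral_of_irreducibleSpace_of_isReduced _

/-- Nonempty opens are schematically dense. -/
theorem dominant (W : (CohB1.ProjSpace n k).Opens) (h : (W : Set (CohB1.ProjSpace n k)).Nonempty) :
    IsSchemeTheoreticallyDominant W.ι := by
  have : IsDominant W.ι := AlgebraicGeometry.Opens.isDominant_ι (W.isOpen.dense h)
  exact IsSchemeTheoreticallyDominant.of_isDominant _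

theorem inter_nonempty (W W' : (CohB1.ProjSpace n k).Opens) (h : (W : Set (CohB1.ProjSpace n k)).Nonempty)
    (h' : (W' : Set (CohB1.ProjSpace n k)).Nonempty) : ((W ⊓ W' : (CohB1.ProjSpace n k).Opens) :
      Set (CohB1.ProjSpace n k)).Nonempty :=
  nonempty_preirreducible_inter W.isOpen W'.isOpen h h'

end Groth.Agent.Lefpen.H717.ProjIrr
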