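import Groth.Prelude.Def_LefPen

/-!
# The tower of intersections of hypersurfaces inside an open subscheme of projective space

`tow G P' 0 = P'`, `tow G P' (l + 1) = tow G P' l ×_P V_+(G_l)` for `l < d`.
-/

set_option autoImplicit false
universe u
open CategoryTheory CategoryTheory.Limits AlgebraicGeometry

namespace Groth.Agent.Lefpen.H717.Tow

variable {r : ℕ} {k : Type u} [Field k] {d : ℕ} {a : Fin d → ℕ} (G : ∀ j : Fin d, LefPen.Form r k (a j))
  (P' : (CohB1.ProjSpace r k).Opens)

/-- The tower of intersections `P' ∩ V_+(G_0) ∩ … ∩ V_+(G_{l-1}) ⟶ P`. -/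
noncomputable def tow : ℕ → Over (CohB1.ProjSpace r k)
  | 0 => Over.mk P'.ι
  | l + 1 => if h : l < d then
      Over.mk (pullback.fst (tow l).hom (LefPen.hypIdeal (G ⟨l, h⟩)).subschemeι ≫ (tow l).hom)
      else tow l

theorem tow_zero : tow G P' 0 = Over.mk P'.ι := rfl

theorem tow_succ (l : ℕ) (h : l < d) : tow G P' (l + 1) =
    Over.mk (pullback.fst (tow G P' l).hom (LefPen.hypIdeal (G ⟨l, h⟩)).subschemeι ≫ (tow G P' l).hom) := by
  rw [tow, dif_pos h]

end Groth.Agent.Lefpen.H717.Tow
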