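import Groth.Agent.Sga4B.DiagB1
import Mathlib.Algebra.Homology.DerivedCategory.Ext.MapBijective
import Mathlib.CategoryTheory.Abelian.Injective.Basic
import Mathlib.CategoryTheory.Adjunction.Additive

/-!
# Formal lemmas for explicit purity classes

* `exists_epi_kill`: classes of positive degree are killed by an epimorphism on the source.
* `locZero_map`: for `Φ` exact fully faithful preserving injectives, `Ext^j(Φ T, Φ M)`, `j > 0`, dies locally.
* `hom_eq_zero`, `ext_one_eq_zero`: for `L ⊣ R`, `L` exact, `L A = 0`: `Hom(A, R B) = 0` and `Ext^1(A, R B) = 0`.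
* `mulBij`: abstract form of the explicit purity statement.
-/

set_option autoImplicit false

universe w w' v v' u u'

open CategoryTheory Limits Abelian

namespace Groth.Agent.Lefpen.H717.Formal

open Groth.Agent.Sga4B.DiagB1

section Smul

variable {C : Type u} [Category.{v} C] [Abelian C] [HasExt.{w} C]

theorem comp_nsmul_id {A B : C} {m : ℕ} (x : Ext.{w} A B m) (n : ℕ) :
    x.comp (Ext.mk₀ (n • 𝟙 B)) (add_zero m) = n • x := by
  let φ : (B ⟶ B) →+ Ext.{w} A B m :=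
    AddMonoidHom.mk' (fun f => x.comp (Ext.mk₀ f) (add_zero m))
      (fun a b => by rw [Ext.mk₀_add, Ext.comp_add])
  refine (map_nsmul φ n (𝟙 B)).trans ?_
  change n • (x.comp (Ext.mk₀ (𝟙 B)) (add_zero m)) = n • x
  rw [Ext.comp_mk₀_id]

theorem nsmul_id_comp {A B : C} {m : ℕ} (x : Ext.{w} A B m) (n : ℕ) :
    (Ext.mk₀ (n • 𝟙 A)).comp x (zero_add m) = n • x := by
  let φ : (A ⟶ A) →+ Ext.{w} A B m :=
    AddMonoidHom.mk' (fun f => (Ext.mk₀ f).comp x (zero_add m))
      (fun a b => by rw [Ext.mk₀_add, Ext.add_comp])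
  refine (map_nsmul φ n (𝟙 A)).trans ?_
  change n • ((Ext.mk₀ (𝟙 A)).comp x (zero_add m)) = n • x
  rw [Ext.mk₀_id_comp]

/-- Lifting along the reduction mod `n`. -/
theorem exists_lift_red {Z M B : C} (n : ℕ) {red : Z ⟶ M} {w₁ : (n • 𝟙 Z) ≫ red = 0}
    (h : (ShortComplex.mk (n • 𝟙 Z) red w₁).ShortExact) (hB : n • 𝟙 B = 0) {m : ℕ}
    (x : Ext.{w} Z B m) : ∃ y : Ext.{w} M B m, (Ext.mk₀ red).comp y (zero_add m) = x := by
  refine Ext.contravariant_sequence_exact₂ h B x ?_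
  change (Ext.mk₀ (n • 𝟙 Z)).comp x (zero_add m) = 0
  rw [nsmul_id_comp, ← comp_nsmul_id, hB, Ext.mk₀_zero, Ext.comp_zero]

end Smul

section Efface

variable {C : Type u} [Category.{v} C] [Abelian C] [HasExt.{w} C] [EnoughInjectives C]

theorem exists_epi_kill {A : C} (m : ℕ) : ∀ {B : C} (x : Ext.{w} A B (m + 1)),
    ∃ (A' : C) (p : A' ⟶ A) (_ : Epi p), (Ext.mk₀ p).comp x (zero_add _) = 0 := by
  induction m with
  | zero =>
    intro B x
    let I : InjectivePresentation B := Classical.arbitrary _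
    let S := ShortComplex.mk _ _ (cokernel.condition I.f)
    have hI : Injective S.X₂ := I.injective
    have hS : S.ShortExact := { exact := ShortComplex.exact_cokernel I.f }
    obtain ⟨e, rfl⟩ := Ext.covariant_sequence_exact₁ A hS x (Ext.eq_zero_of_injective _) (rfl : 0 + 1 = 0 + 1)
    obtain ⟨f, rfl⟩ := (Ext.mk₀_bijective _ _).2 e
    have hg : Epi S.g := hS.epi_g
    refine ⟨pullback f S.g, pullback.fst f S.g, inferInstance, ?_⟩
    rw [← Ext.comp_assoc _ _ _ (zero_add 0) (zero_add 1) (by omega), Ext.mk₀_comp_mk₀,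
      pullback.condition, ← Ext.mk₀_comp_mk₀, Ext.comp_assoc _ _ _ (zero_add 0) (zero_add 1) (by omega)]
    rw [hS.comp_extClass, Ext.comp_zero]
  | succ m ih =>
    intro B x
    let I : InjectivePresentation B := Classical.arbitrary _
    let S := ShortComplex.mk _ _ (cokernel.condition I.f)
    have hI : Injective S.X₂ := I.injective
    have hS : S.ShortExact := { exact := ShortComplex.exact_cokernel I.f }
    obtain ⟨e, rfl⟩ := Ext.covariant_sequence_exact₁ A hS x (Ext.eq_zero_of_injective _)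
      (rfl : (m + 1) + 1 = m + 1 + 1)
    obtain ⟨A', p, hp, h⟩ := ih e
    refine ⟨A', p, hp, ?_⟩
    rw [← Ext.comp_assoc _ _ _ (zero_add _) rfl (by omega), h, Ext.zero_comp]

end Efface

section Map

variable {C : Type u} [Category.{v} C] [Abelian C] [HasExt.{w} C] [EnoughInjectives C]
  {D : Type u'} [Category.{v'} D] [Abelian D] [HasExt.{w'} D]
  (Φ : C ⥤ D) [Φ.Additive] [PreservesFiniteLimits Φ] [PreservesFiniteColimits Φ]
  [Φ.Full] [Φ.Faithful] [Φ.PreservesInjectiveObjects]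

include C in
theorem locZero_map (M : C) (j : ℕ) (hj : 0 < j) : LocZero.{w'} Φ (Φ.obj M) j := by
  obtain ⟨m, rfl⟩ : ∃ m, j = m + 1 := ⟨j - 1, by omega⟩
  intro T y
  obtain ⟨x, rfl⟩ := (Φ.mapExt_bijective_of_preservesInjectiveObjects.{w, w'} T M (m + 1)).2 y
  obtain ⟨T', p, hp, h⟩ := exists_epi_kill m x
  refine ⟨T', p, hp, ?_⟩
  change (Ext.mk₀ (Φ.map p)).comp (x.mapExactFunctor Φ) (zero_add _) = 0
  rw [← Ext.mapExactFunctor_mk₀, ← Ext.mapExactFunctor_comp, h, Ext.mapExactFunctor_zero]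

end Map

section Adj

variable {C : Type u} [Category.{v} C] [Abelian C] [HasExt.{w} C]
  {D : Type u'} [Category.{v'} D] [Abelian D] [EnoughInjectives D]
  {L : C ⥤ D} {R : D ⥤ C} (adj : L ⊣ R)

include adj in
omit [HasExt.{w} C] [EnoughInjectives D] in
theorem hom_eq_zero {A : C} (hA : IsZero (L.obj A)) {B : D} (f : A ⟶ R.obj B) : f = 0 := by
  apply (adj.homEquiv A B).symm.injective
  exact hA.eq_of_src _ _

include adj in
theorem ext_one_eq_zero [L.Additive] [PreservesFiniteLimits L] {A : C} (hA : IsZero (L.obj A)) {B : D}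
    (x : Ext.{w} A (R.obj B) 1) : x = 0 := by
  have hRadd : R.Additive := adj.right_adjoint_additive
  have hRlim : PreservesFiniteLimits R :=
    have : PreservesLimitsOfSize.{0, 0} R := adj.rightAdjoint_preservesLimits
    PreservesLimitsOfSize.preservesFiniteLimits _
  let I : InjectivePresentation B := Classical.arbitrary _
  have hLm : L.PreservesMonomorphisms := inferInstance
  have hI : Injective I.J := I.injective
  have hRI : Injective (R.obj I.J) := Injective.injective_of_adjoint adj I.J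
  have hm : Mono (R.map I.f) := inferInstance
  let S : ShortComplex C := ShortComplex.mk (R.map I.f) (cokernel.π (R.map I.f)) (cokernel.condition _)
  have hS : S.ShortExact := { exact := ShortComplex.exact_cokernel (R.map I.f) }
  have hI2 : Injective S.X₂ := hRI
  obtain ⟨e, rfl⟩ := Ext.covariant_sequence_exact₁ A hS x (Ext.eq_zero_of_injective _) (zero_add 1)
  obtain ⟨f, rfl⟩ := (Ext.mk₀_bijective _ _).2 e
  -- the cokernel embeds into `R (coker)`
  let B' := cokernel I.f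
  let q : I.J ⟶ B' := cokernel.π I.f
  have hq : R.map I.f ≫ R.map q = 0 := by
    rw [← R.map_comp, cokernel.condition, R.map_zero]
  let l : S.X₃ ⟶ R.obj B' := cokernel.desc (R.map I.f) (R.map q) hq
  have hl : Mono l := by
    have hex : (ShortComplex.mk (R.map I.f) (R.map q) hq).Exact := by
      have h1 : (ShortComplex.mk I.f q (cokernel.condition I.f)).ShortExact :=
        { exact := ShortComplex.exact_cokernel I.f }
      have h2 := (R.preservesFiniteLimits_iff_forall_exact_map_and_mono.1 hRlim _ h1).1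
      exact h2
    exact hex.mono_cokernelDesc
  have h0 : f ≫ l = 0 := hom_eq_zero adj hA (B := B') (f ≫ l)
  have hf : f = 0 := by
    rw [← cancel_mono l, h0, zero_comp]
  rw [hf, Ext.mk₀_zero, Ext.zero_comp]

end Adj

section Mul

variable {𝒟 : Type u} [Category.{v} 𝒟] [Abelian 𝒟] {𝒳 : Type u'} [Category.{v'} 𝒳] [Abelian 𝒳]
  [HasExt.{w} 𝒳] (Φ : 𝒟 ⥤ 𝒳) [Φ.Additive] [PreservesFiniteLimits Φ] [PreservesFiniteColimits Φ]

/-- Abstract form of the explicit purity statement. -/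
theorem mulBij {G J Z A B : 𝒳} (n : ℕ)
    {r : G ⟶ J} {δ : J ⟶ Z} {w₁ : r ≫ δ = 0} (h₁ : (ShortComplex.mk r δ w₁).ShortExact)
    {z : B ⟶ G} {w₂ : z ≫ (n • 𝟙 G) = 0} (h₂ : (ShortComplex.mk z (n • 𝟙 G) w₂).ShortExact)
    (red : Z ⟶ A) (hred : n • red = 0)
    (hlift : ∀ (T : 𝒟) (x : Φ.obj T ⟶ A), ∃ (T' : 𝒟) (p : T' ⟶ T) (_ : Epi p) (y : Φ.obj T' ⟶ Z),
      Φ.map p ≫ x = y ≫ red)
    (hJ0 : ∀ (T : 𝒟) (x : Φ.obj T ⟶ J), x = 0)
    (hJ1 : ∀ (T : 𝒟) (x : Ext.{w} (Φ.obj T) J 1), x = 0)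
    (hG2 : LocZero.{w} Φ G 2)
    (hA : ∀ j, 0 < j → LocZero.{w} Φ A j) (hB : ∀ j, j ≠ 2 → LocZero.{w} Φ B j)
    (g : Ext.{w} A B 2)
    (hg : (Ext.mk₀ red).comp g (zero_add 2) = h₁.extClass.comp h₂.extClass (rfl : 1 + 1 = 2))
    (m : ℕ) {m' : ℕ} (h : m + 2 = m') (T : 𝒟) :
    Function.Bijective (fun x : Ext.{w} (Φ.obj T) A m => x.comp g h) := by
  -- `Hom(Φ T, Z) ≅ Ext^1(Φ T, G)`
  have hinj : ∀ (T : 𝒟) (y : Φ.obj T ⟶ Z), (Ext.mk₀ y).comp h₁.extClass (zero_add 1) = 0 → y = 0 := by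
    intro T y hy
    obtain ⟨x, hx⟩ := Ext.covariant_sequence_exact₃ (Φ.obj T) h₁ (Ext.mk₀ y) (zero_add 1) hy
    obtain ⟨x', rfl⟩ := (Ext.mk₀_bijective _ _).2 x
    have hx0 : x' = 0 := hJ0 T x'
    rw [hx0] at hx
    apply (Ext.mk₀_bijective _ _).1
    rw [← hx, Ext.mk₀_zero, Ext.zero_comp]
    exact (Ext.mk₀_zero _ _).symm
  have hsurj : ∀ (T : 𝒟) (e : Ext.{w} (Φ.obj T) G 1), ∃ y : Φ.obj T ⟶ Z,
      (Ext.mk₀ y).comp h₁.extClass (zero_add 1) = e := by
    intro T e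
    obtain ⟨y, hy⟩ := Ext.covariant_sequence_exact₁ (Φ.obj T) h₁ e (hJ1 T _) (zero_add 1)
    obtain ⟨y', rfl⟩ := (Ext.mk₀_bijective _ _).2 y
    exact ⟨y', hy⟩
  refine bijective_comp Φ g ?_ ?_ hA hB m h T
  · -- injectivity in degree zero
    intro T x hx
    obtain ⟨T', p, hp, y, hy⟩ := hlift T x
    have h3 : ((Ext.mk₀ y).comp h₁.extClass (zero_add 1)).comp h₂.extClass (rfl : 1 + 1 = 2) = 0 := by
      rw [Ext.comp_assoc _ _ _ (zero_add 1) rfl (by omega), ← hg,
        ← Ext.comp_assoc _ _ _ (zero_add 0) (zero_add 2) (by omega), Ext.mk₀_comp_mk₀, ← hy,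
        ← Ext.mk₀_comp_mk₀, Ext.comp_assoc _ _ _ (zero_add 0) (zero_add 2) (by omega), hx,
        Ext.comp_zero]
    obtain ⟨e, he⟩ := Ext.covariant_sequence_exact₃ (Φ.obj T') h₂
      ((Ext.mk₀ y).comp h₁.extClass (zero_add 1)) (rfl : 1 + 1 = 2) h3
    obtain ⟨y', rfl⟩ := hsurj T' e
    have h4 : y = n • y' := by
      rw [← sub_eq_zero]
      apply hinj
      have he' : n • ((Ext.mk₀ y').comp h₁.extClass (zero_add 1)) =
          (Ext.mk₀ y).comp h₁.extClass (zero_add 1) := by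
        rw [← he, comp_nsmul_id]
      have h7 : (Ext.mk₀ (n • y')).comp h₁.extClass (zero_add 1) =
          n • ((Ext.mk₀ y').comp h₁.extClass (zero_add 1)) := by
        let φ : (Φ.obj T' ⟶ Z) →+ Ext.{w} (Φ.obj T') G 1 :=
          AddMonoidHom.mk' (fun f => (Ext.mk₀ f).comp h₁.extClass (zero_add 1))
            (fun a b => by rw [Ext.mk₀_add, Ext.add_comp])
        exact map_nsmul φ n y'
      rw [sub_eq_add_neg, Ext.mk₀_add, Ext.mk₀_neg, Ext.add_comp, Ext.neg_comp, h7, he',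
        add_neg_cancel]
    have h6 : Φ.map p ≫ x = 0 := by
      rw [hy, h4, Preadditive.nsmul_comp, ← Preadditive.comp_nsmul, hred, comp_zero]
    have : Epi (Φ.map p) := inferInstance
    rw [← cancel_epi (Φ.map p), h6, comp_zero]
  · intro T y
    obtain ⟨T₁, p₁, hp₁, hy₁⟩ := hG2 T (y.comp (Ext.mk₀ z) (add_zero 2))
    have h3 : (res Φ p₁ y).comp (Ext.mk₀ z) (add_zero 2) = 0 := by
      rw [← hy₁]
      exact Ext.comp_assoc _ _ _ (zero_add 2) (add_zero 2) (by omega)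
    obtain ⟨e, he⟩ := Ext.covariant_sequence_exact₁ (Φ.obj T₁) h₂ (res Φ p₁ y) h3 (rfl : 1 + 1 = 2)
    obtain ⟨y', rfl⟩ := hsurj T₁ e
    refine ⟨T₁, p₁, hp₁, y' ≫ red, ?_⟩
    rw [← he, ← Ext.mk₀_comp_mk₀, Ext.comp_assoc _ _ _ (zero_add 0) (zero_add 2) (by omega), hg,
      Ext.comp_assoc _ _ _ (zero_add 1) rfl (by omega)]

end Mul

end Groth.Agent.Lefpen.H717.Formal
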