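import Groth.Agent.Lefpen.H717.Formal
import Groth.Agent.Etcore.EtInst
import Groth.Agent.Etcore.ExtAdj
import Groth.Agent.Sga4B.ClosedSupp
import Groth.Agent.Sga4h.LocCohLES
import Groth.Agent.EtpbcB.RDerLES

/-!
# Vanishing of local cohomology sheaves and local vanishing of `Ext^q(i_* T, F)`
-/

set_option autoImplicit false
set_option linter.unusedSectionVars false
universe u
open CategoryTheory CategoryTheory.Limits AlgebraicGeometry Opposite Abelian

namespace Groth.Agent.Lefpen.H717.LocCohZero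

open scoped Groth.Agent.Etcore.EtInst
open Groth.Agent.Sga4B.DiagB1 Groth.Agent.Sga4B.ClosedSupp Formal

instance pull_lim {X Y : Scheme.{u}} (f : X ⟶ Y) : PreservesFiniteLimits (EtCoh.pull f) := S0101.result f

instance pull_colim {X Y : Scheme.{u}} (f : X ⟶ Y) : PreservesFiniteColimits (EtCoh.pull f) :=
  EtCore.pull_preservesFiniteColimits f

instance pull_add {X Y : Scheme.{u}} (f : X ⟶ Y) : (EtCoh.pull f).Additive :=
  (EtCoh.pullPushAdj f).left_adjoint_additive

section Push

variable {D X : Scheme.{u}} (i : D ⟶ X) [IsClosedImmersion i]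

instance push_colim : PreservesFiniteColimits (EtCoh.push i) := preservesFiniteColimits_push i

instance push_lim : PreservesFiniteLimits (EtCoh.push i) :=
  have : PreservesLimitsOfSize.{0, 0} (EtCoh.push i) :=
    (EtCoh.pullPushAdj i).rightAdjoint_preservesLimits
  PreservesLimitsOfSize.preservesFiniteLimits _

instance push_full : (EtCoh.push i).Full := (S0067.result i).1

instance push_faithful : (EtCoh.push i).Faithful := (S0067.result i).2

instance push_inj : (EtCoh.push i).PreservesInjectiveObjects :=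
  Functor.preservesInjectiveObjects_of_adjunction_of_preservesMonomorphisms (EtCoh.pullPushAdj i)

end Push

section LocZero

variable {D X U : Scheme.{u}} (i : D ⟶ X) [IsClosedImmersion i] (j : U ⟶ X) [IsOpenImmersion j]
  (hU : Set.range j = (Set.range i)ᶜ)

include hU in
theorem isZero_pull_push' (T : EtCoh.Ab D) : IsZero ((EtCoh.pull j).obj ((EtCoh.push i).obj T)) :=
  isZero_pull_push i j (by rw [hU]; exact disjoint_compl_left) T

include hU in
/-- Sheaves with support in `D` have only locally trivial positive `Ext` groups from `i_* T`. -/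
theorem locZero_of_supp (F : EtCoh.Ab X) (hF : IsZero ((EtCoh.pull j).obj F)) (q : ℕ) (hq : 0 < q) :
    LocZero.{u + 1} (EtCoh.push i) F q := by
  have h1 := isIso_unit_of_isZero i j hU F hF
  have h2 := locZero_map (EtCoh.push i) ((EtCoh.pull i).obj F) q hq
  intro T y
  obtain ⟨T', p, hp, h⟩ := h2 T (y.comp (Ext.mk₀ ((EtCoh.pullPushAdj i).unit.app F)) (add_zero q))
  refine ⟨T', p, hp, ?_⟩
  have h3 : (res (EtCoh.push i) p y).comp (Ext.mk₀ ((EtCoh.pullPushAdj i).unit.app F)) (add_zero q) = 0 := by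
    rw [← h]
    exact Ext.comp_assoc _ _ _ (zero_add q) (add_zero q) (by omega)
  have h4 := congrArg (fun z => z.comp (Ext.mk₀ (inv ((EtCoh.pullPushAdj i).unit.app F))) (add_zero q)) h3
  rw [Ext.comp_assoc_of_third_deg_zero, Ext.mk₀_comp_mk₀, IsIso.hom_inv_id, Ext.comp_mk₀_id,
    Ext.zero_comp] at h4
  exact h4

include hU in
/-- If `H^q_D(F) = 0` then `Ext^q(i_* T, F)` vanishes locally. -/
theorem locZero_of_locCoh (q : ℕ) : ∀ (F : EtCoh.Ab X), IsZero ((EtDual.locCoh j q).obj F) →
    LocZero.{u + 1} (EtCoh.push i) F q := by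
  induction q using Nat.strong_induction_on with
  | _ q ih =>
  intro F hF
  obtain rfl | rfl | ⟨q, rfl⟩ : q = 0 ∨ q = 1 ∨ ∃ q', q = q' + 2 := by
    rcases q with _ | _ | q
    · exact Or.inl rfl
    · exact Or.inr (Or.inl rfl)
    · exact Or.inr (Or.inr ⟨q, rfl⟩)
  · intro T y
    refine ⟨T, 𝟙 T, inferInstance, ?_⟩
    obtain ⟨f, rfl⟩ := (Ext.mk₀_bijective _ _).2 y
    have h1 : Mono (EtDual.unitApp j F) := (Sga4h.LocCohLES.isZero_locCoh_zero_iff j F).1 hF
    have h2 : f ≫ EtDual.unitApp j F = 0 :=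
      hom_eq_zero (EtCoh.pullPushAdj j) (isZero_pull_push' i j hU T) _
    have h3 : f = 0 := by rw [← cancel_mono (EtDual.unitApp j F), h2, zero_comp]
    rw [h3, Ext.mk₀_zero]
    exact res_zero _ _
  · intro T y
    have h1 : Epi (EtDual.unitApp j F) := (Sga4h.LocCohLES.isZero_locCoh_one_iff j F).1 hF
    have hS : (ShortComplex.mk ((Sga4h.LocCohLES.incl j).app F) ((Sga4h.LocCohLES.unitNat j).app F)
        (Sga4h.LocCohLES.incl_unit j F)).ShortExact :=
      { exact := ShortComplex.exact_of_f_is_kernel _ (Sga4h.LocCohLES.isLimitIncl j F)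
        mono_f := inferInstanceAs (Mono ((Sga4h.LocCohLES.incl j).app F))
        epi_g := h1 }
    have h2 : y.comp (Ext.mk₀ ((Sga4h.LocCohLES.unitNat j).app F)) (add_zero 1) = 0 :=
      ext_one_eq_zero (EtCoh.pullPushAdj j) (isZero_pull_push' i j hU T) _
    obtain ⟨z, rfl⟩ := Ext.covariant_sequence_exact₂ _ hS y h2
    obtain ⟨T', p, hp, h⟩ := locZero_of_supp i j hU ((EtDual.secSupp j).obj F) (isZero_pull_secSupp j F)
      1 one_pos T z
    refine ⟨T', p, hp, ?_⟩
    have h5 := congrArg (fun z => z.comp (Ext.mk₀ ((Sga4h.LocCohLES.incl j).app F)) (add_zero 1)) h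
    dsimp only at h5
    rw [Ext.zero_comp] at h5
    rw [← h5]
    exact (Ext.comp_assoc _ _ _ (zero_add 1) (add_zero 1) (by omega)).symm
  · intro T y
    let I : InjectivePresentation F := Classical.arbitrary _
    let S := ShortComplex.mk _ _ (cokernel.condition I.f)
    have hI : Injective S.X₂ := I.injective
    have hS : S.ShortExact := { exact := ShortComplex.exact_cokernel I.f }
    obtain ⟨z, rfl⟩ := Ext.covariant_sequence_exact₁ _ hS y (Ext.eq_zero_of_injective _)
      (rfl : (q + 1) + 1 = q + 1 + 1)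
    have h1 : IsZero ((EtDual.locCoh j (q + 1)).obj S.X₃) := by
      refine (EtpbcB.RDerLES.exact₃ (EtDual.secSupp j) hS (q + 1)).isZero_of_both_zeros ?_ ?_
      · exact (Functor.isZero_rightDerived_obj_injective_succ (EtDual.secSupp j) q S.X₂).eq_of_src _ _
      · exact hF.eq_of_tgt _ _
    obtain ⟨T', p, hp, h⟩ := ih (q + 1) (by omega) S.X₃ h1 T z
    refine ⟨T', p, hp, ?_⟩
    rw [res_comp, h, Ext.zero_comp]

end LocZero

end Groth.Agent.Lefpen.H717.LocCohZero
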